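import Mathlib
import Groth.Prelude.Def_RelSpec

/-!
# Properties of morphisms of relative spectra, checked on charts
-/

set_option autoImplicit false
set_option linter.style.haveILetI false

universe u

open AlgebraicGeometry CategoryTheory CategoryTheory.Limits Opposite TopologicalSpace

noncomputable section

namespace SymAlgLib

variable {S : Scheme.{u}} {A B : RelSpec.QCAlg S}

theorem prop_morphismRestrict {P : MorphismProperty Scheme.{u}} [P.RespectsIso] {X Y U V : Scheme.{u}} {f : X ⟶ Y}
    {g : U ⟶ V} {iU : U ⟶ X} {iV : V ⟶ Y} [IsOpenImmersion iV] (h : IsPullback g iU iV f) (hg : P g) :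
    P (f ∣_ iV.opensRange) := by
  refine (P.arrow_mk_iso_iff (morphismRestrictOpensRange f iV)).mpr ?_
  rw [← P.cancel_left_of_respectsIso h.flip.isoPullback.hom, h.flip.isoPullback_hom_snd]
  exact hg

/-- A property local on the target holds for the structure map if it holds on charts. -/
theorem prop_π {P : MorphismProperty Scheme.{u}} [IsZariskiLocalAtTarget P]
    (h : ∀ (U : S.Opens), IsAffineOpen U → P (Spec.map (A.str.app (op U)))) : P A.π := by
  refine IsZariskiLocalAtTarget.of_forall_exists_morphismRestrict fun x => ?_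
  obtain ⟨U, hU, hxU, -⟩ := exists_isAffineOpen_mem_and_subset (X := S) (x := x) (U := ⊤) trivial
  refine ⟨hU.fromSpec.opensRange, by rw [IsAffineOpen.opensRange_fromSpec]; exact hxU, ?_⟩
  refine prop_morphismRestrict (IsOpenImmersion.isPullback _ (A.ι U hU) hU.fromSpec A.π (A.ι_π U hU) ?_) (h U hU)
  rw [IsAffineOpen.opensRange_fromSpec, A.π_preimage U hU]

/-- A property local on the target holds for an induced map if it holds on charts. -/
theorem prop_specMap {P : MorphismProperty Scheme.{u}} [IsZariskiLocalAtTarget P] (ψ : A ⟶ B)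
    (h : ∀ (U : S.Opens), IsAffineOpen U → P (Spec.map (ψ.hom.app (op U)))) : P (RelSpec.QCAlg.specMap ψ) := by
  refine IsZariskiLocalAtTarget.of_forall_exists_morphismRestrict fun x => ?_
  obtain ⟨U, hU, hxU, -⟩ := exists_isAffineOpen_mem_and_subset (X := S) (x := A.π x) (U := ⊤) trivial
  refine ⟨(A.ι U hU).opensRange, by rw [← A.π_preimage U hU]; exact hxU, ?_⟩
  refine prop_morphismRestrict (IsOpenImmersion.isPullback _ (B.ι U hU) (A.ι U hU) _
    (RelSpec.QCAlg.ι_specMap U hU ψ) ?_) (h U hU)
  rw [← A.π_preimage U hU, ← B.π_preimage U hU, ← Scheme.Hom.comp_preimage, RelSpec.QCAlg.specMap_π]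

end SymAlgLib

end
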