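import Mathlib

/-!
# Symmetric algebras and localisation
-/

set_option autoImplicit false
set_option linter.style.haveILetI false

universe u

noncomputable section

namespace SymAlgLib

open SymmetricAlgebra

variable {R R' : Type u} [CommRing R] [CommRing R'] {M M' : Type u} [AddCommGroup M] [AddCommGroup M']
  [Module R M] [Module R' M'] (φ : R →+* R') (f : M →+ M') (hf : ∀ (a : R) (m : M), f (a • m) = φ a • f m)

/-- The map of symmetric algebras along a semilinear map. -/
def mapRing : SymmetricAlgebra R M →+* SymmetricAlgebra R' M' :=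
  letI : Algebra R (SymmetricAlgebra R' M') := ((algebraMap R' (SymmetricAlgebra R' M')).comp φ).toAlgebra
  (lift
    { toFun := fun m => ι R' M' (f m)
      map_add' := fun a b => by rw [map_add, map_add]
      map_smul' := fun a m => by
        rw [hf, map_smul, Algebra.smul_def]
        rfl }).toRingHom

@[simp] theorem mapRing_ι (m : M) : mapRing φ f hf (ι R M m) = ι R' M' (f m) := by
  letI : Algebra R (SymmetricAlgebra R' M') := ((algebraMap R' (SymmetricAlgebra R' M')).comp φ).toAlgebra
  show lift _ (ι R M m) = _
  rw [lift_ι_apply]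
  rfl

@[simp] theorem mapRing_algebraMap (a : R) :
    mapRing φ f hf (algebraMap R _ a) = algebraMap R' _ (φ a) := by
  letI : Algebra R (SymmetricAlgebra R' M') := ((algebraMap R' (SymmetricAlgebra R' M')).comp φ).toAlgebra
  exact AlgHom.commutes (lift _) a

omit [CommRing R'] [AddCommGroup M'] [Module R' M'] in
/-- Ring homomorphisms out of a symmetric algebra are determined by the generators. -/
theorem ringHom_ext {A : Type u} [CommRing A] {F G : SymmetricAlgebra R M →+* A}
    (h1 : ∀ a, F (algebraMap R _ a) = G (algebraMap R _ a)) (h2 : ∀ m, F (ι R M m) = G (ι R M m)) : F = G := by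
  refine RingHom.ext fun x => ?_
  induction x using SymmetricAlgebra.induction with
  | algebraMap a => exact h1 a
  | ι m => exact h2 m
  | mul a b ha hb => rw [map_mul, map_mul, ha, hb]
  | add a b ha hb => rw [map_add, map_add, ha, hb]

/-- Symmetric algebras commute with localisation. -/
theorem isLocalization_mapRing (r : R) (hR : letI := φ.toAlgebra; IsLocalization.Away r R')
    (hsurj : ∀ y : M', ∃ (k : ℕ) (m : M), f m = φ r ^ k • y)
    (hzero : ∀ m : M, f m = 0 → ∃ k : ℕ, r ^ k • m = 0) :
    letI := (mapRing φ f hf).toAlgebra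
    IsLocalization.Away (algebraMap R (SymmetricAlgebra R M) r) (SymmetricAlgebra R' M') := by
  letI := φ.toAlgebra
  haveI := hR
  letI : Module R M' := Module.compHom M' φ
  haveI : IsScalarTower R R' M' := ⟨fun a b y => by
    show (a • b) • y = φ a • (b • y)
    rw [Algebra.smul_def, mul_smul]; rfl⟩
  let fl : M →ₗ[R] M' := { f with map_smul' := hf }
  have hru : IsUnit (φ r) := IsLocalization.Away.algebraMap_isUnit (S := R') r
  have hunit : ∀ {N : Type u} [AddCommGroup N] [Module R N] [Module R' N] [IsScalarTower R R' N]
      (x : Submonoid.powers r), IsUnit (algebraMap R (Module.End R N) x) := by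
    intro N _ _ _ _ x
    obtain ⟨_, n, rfl⟩ := x
    rw [map_pow]
    refine IsUnit.pow n ((Module.End.isUnit_iff _).2 ?_)
    show Function.Bijective fun y : N => r • y
    simp only [← algebraMap_smul R' r]
    exact hru.smul_bijective
  haveI : IsLocalizedModule (Submonoid.powers r) fl := by
    refine ⟨hunit, fun y => ?_, fun {a b} h => ?_⟩
    · obtain ⟨k, m, hm⟩ := hsurj y
      refine ⟨(m, ⟨r ^ k, k, rfl⟩), ?_⟩
      show (r ^ k : R) • y = f m
      rw [hm, ← algebraMap_smul R' (r ^ k), map_pow]
      rfl
    · obtain ⟨k, hk⟩ := hzero (a - b) (by rw [map_sub, sub_eq_zero]; exact h)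
      refine ⟨⟨r ^ k, k, rfl⟩, ?_⟩
      rw [smul_sub, sub_eq_zero] at hk
      exact hk
  let S := SymmetricAlgebra R M
  let c : S := algebraMap R S r
  let L := Localization.Away c
  have hcu : IsUnit (algebraMap R L r) := by
    rw [IsScalarTower.algebraMap_apply R S L]
    exact IsLocalization.Away.algebraMap_isUnit c
  letI : Algebra R' L := (IsLocalization.Away.lift (S := R') r hcu).toAlgebra
  haveI : IsScalarTower R R' L := IsScalarTower.of_algebraMap_eq fun a =>
    (IsLocalization.Away.lift_eq r hcu a).symm
  let g : M →ₗ[R] L := ((Algebra.linearMap S L).restrictScalars R).comp (ι R M)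
  let g' : M' →ₗ[R'] L := LinearMap.extendScalarsOfIsLocalization (Submonoid.powers r) R'
    (IsLocalizedModule.lift (Submonoid.powers r) fl g hunit)
  let ν : SymmetricAlgebra R' M' →ₐ[R'] L := lift g'
  let μ := mapRing φ f hf
  have hμc : IsUnit (μ c) := by
    rw [show μ c = algebraMap R' _ (φ r) from mapRing_algebraMap φ f hf r]
    exact hru.map _
  let w : L →+* SymmetricAlgebra R' M' := IsLocalization.Away.lift c hμc
  have hνμ : ν.toRingHom.comp μ = algebraMap S L := by
    refine ringHom_ext (fun a => ?_) fun m => ?_
    · show ν (μ (algebraMap R S a)) = _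
      rw [show μ (algebraMap R S a) = algebraMap R' _ (φ a) from mapRing_algebraMap φ f hf a, AlgHom.commutes,
        ← IsScalarTower.algebraMap_apply R S L]
      exact IsLocalization.Away.lift_eq r hcu a
    · show ν (μ (ι R M m)) = _
      rw [show μ (ι R M m) = ι R' M' (f m) from mapRing_ι φ f hf m]
      show ν (ι R' M' (f m)) = _
      rw [lift_ι_apply]
      exact IsLocalizedModule.lift_apply (Submonoid.powers r) fl g hunit m
  have hwalg : ∀ b : R', w (algebraMap R' L b) = algebraMap R' _ b := by
    refine fun b => RingHom.congr_fun (IsLocalization.ringHom_ext (Submonoid.powers r) ?_ :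
      w.comp (algebraMap R' L) = algebraMap R' (SymmetricAlgebra R' M')) b
    refine RingHom.ext fun a => ?_
    show w (algebraMap R' L (algebraMap R R' a)) = _
    rw [← IsScalarTower.algebraMap_apply R R' L, IsScalarTower.algebraMap_apply R S L, IsLocalization.Away.lift_eq]
    exact mapRing_algebraMap φ f hf a
  have hwν : w.comp ν.toRingHom = RingHom.id _ := by
    refine ringHom_ext (fun b => ?_) fun y => ?_
    · show w (ν (algebraMap R' _ b)) = _
      rw [AlgHom.commutes]
      exact hwalg b
    · show w (ν (ι R' M' y)) = ι R' M' y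
      rw [lift_ι_apply]
      obtain ⟨k, m, hm⟩ := hsurj y
      have h1 : w (g' (f m)) = ι R' M' (f m) := by
        rw [show g' (f m) = algebraMap S L (ι R M m) from
          IsLocalizedModule.lift_apply (Submonoid.powers r) fl g hunit m, IsLocalization.Away.lift_eq]
        exact mapRing_ι φ f hf m
      rw [hm, map_smul g', map_smul (ι R' M'), Algebra.smul_def, Algebra.smul_def, map_mul, hwalg] at h1
      exact ((hru.pow k).map _).mul_left_cancel h1
  have hνw : ν.toRingHom.comp w = RingHom.id L := by
    refine IsLocalization.ringHom_ext (Submonoid.powers c) ?_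
    rw [RingHom.comp_assoc, IsLocalization.Away.lift_comp, hνμ, RingHom.id_comp]
  letI := μ.toAlgebra
  let e : L ≃ₐ[S] SymmetricAlgebra R' M' :=
    { toFun := w
      invFun := ν
      left_inv := fun x => RingHom.congr_fun hνw x
      right_inv := fun x => RingHom.congr_fun hwν x
      map_mul' := map_mul w
      map_add' := map_add w
      commutes' := fun s => IsLocalization.Away.lift_eq c hμc s }
  exact IsLocalization.isLocalization_of_algEquiv (Submonoid.powers c) e

end SymAlgLib

end
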