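import Mathlib
import Groth.Prelude.Def_RelSpec
import Groth.Prelude.Def_Coh
import Groth.Agent.QCohLib.Affine
import Groth.Agent.QCohLib.Gen
import Groth.Agent.SymAlgLib.Ring

/-!
# The symmetric algebra of a quasi-coherent module
-/

set_option autoImplicit false
set_option linter.style.haveILetI false
set_option linter.unusedSectionVars false

universe u

open AlgebraicGeometry CategoryTheory CategoryTheory.Limits Opposite TopologicalSpace
open AlgebraicGeometry.Scheme AlgebraicGeometry.Scheme.AffineZariskiSite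

noncomputable section

namespace SymAlgLib

variable {S : Scheme.{u}} (E : S.Modules) [hE : Coh.IsQCoh E]

/-- Symmetric algebras on a pair of opens. -/
abbrev symObj (U : S.Opens) : CommRingCat.{u} := .of (SymmetricAlgebra Γ(S, U) Γ(E, U))

/-- Restriction of symmetric algebras. -/
def symRes {U V : S.Opens} (h : V ≤ U) : symObj E U →+* symObj E V :=
  mapRing (S.presheaf.map (homOfLE h).op).hom (E.presheaf.map (homOfLE h).op).hom
    fun a m => QCohLib.map_smul' E (homOfLE h) a m

theorem symRes_algebraMap {U V : S.Opens} (h : V ≤ U) (a : Γ(S, U)) :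
    symRes E h (algebraMap _ _ a) = algebraMap Γ(S, V) _ (S.presheaf.map (homOfLE h).op a) :=
  mapRing_algebraMap _ _ _ a

theorem symRes_ι {U V : S.Opens} (h : V ≤ U) (m : Γ(E, U)) :
    symRes E h (SymmetricAlgebra.ι _ _ m) = SymmetricAlgebra.ι Γ(S, V) _ (E.presheaf.map (homOfLE h).op m) :=
  mapRing_ι _ _ _ m

/-- The symmetric algebras on affine opens. -/
def diagram : S.AffineZariskiSiteᵒᵖ ⥤ CommRingCat.{u} where
  obj U := symObj E U.unop.1
  map {U V} i := CommRingCat.ofHom (symRes E (toOpens_mono i.unop.le))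
  map_id U := by
    refine CommRingCat.hom_ext (ringHom_ext (fun a => ?_) fun m => ?_)
    · exact (symRes_algebraMap E _ a).trans (congrArg _ congr($(S.presheaf.map_id _) a))
    · exact (symRes_ι E _ m).trans (congrArg _ congr($(E.presheaf.map_id _) m))
  map_comp {U V W} i j := by
    refine CommRingCat.hom_ext (ringHom_ext (fun a => ?_) fun m => ?_)
    · refine (symRes_algebraMap E _ a).trans (Eq.trans ?_ ((congrArg _ (symRes_algebraMap E _ a)).trans
        (symRes_algebraMap E _ _)).symm)
      exact congrArg _ congr($(S.presheaf.map_comp (homOfLE (toOpens_mono i.unop.le)).op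
        (homOfLE (toOpens_mono j.unop.le)).op) a)
    · refine (symRes_ι E _ m).trans (Eq.trans ?_ ((congrArg _ (symRes_ι E _ m)).trans (symRes_ι E _ _)).symm)
      exact congrArg _ congr($(E.presheaf.map_comp (homOfLE (toOpens_mono i.unop.le)).op
        (homOfLE (toOpens_mono j.unop.le)).op) m)

/-- The structure map. -/
def diagramMap : (toOpensFunctor S).op ⋙ S.presheaf ⟶ diagram E where
  app U := CommRingCat.ofHom (algebraMap Γ(S, U.unop.1) (SymmetricAlgebra Γ(S, U.unop.1) Γ(E, U.unop.1)))
  naturality U V i := by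
    ext a
    exact (symRes_algebraMap E (toOpens_mono i.unop.le) a).symm

theorem coequifibered : (diagramMap E).Coequifibered := by
  refine coequifibered_iff_forall_isLocalizationAway.mpr fun U r => ?_
  let l := QCohLib.localizingAt_of_isQCoh U.2 E r
  refine isLocalization_mapRing (M' := Γ(E, S.basicOpen r)) (S.presheaf.map (homOfLE (S.basicOpen_le r)).op).hom
    (E.presheaf.map (homOfLE (S.basicOpen_le r)).op).hom (fun a m => QCohLib.map_smul' E _ a m) r
    (U.2.isLocalization_basicOpen r) (fun y => ?_) fun m hm => ?_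
  · obtain ⟨k, t, ht⟩ := l.exists_extend y
    exact ⟨k, t, ht⟩
  · obtain ⟨k, hk⟩ := l.eq_zero m hm
    refine ⟨k, ?_⟩
    rwa [show S.presheaf.map (homOfLE (le_refl U.1)).op r = r from congr($(S.presheaf.map_id _) r)] at hk

/-- The gluing data. -/
def glueData := relativeGluingData (coequifibered E)

instance : ((glueData E).functor ⋙ Scheme.forget).IsLocallyDirected :=
  Scheme.Cover.RelativeGluingData.instIsLocallyDirectedI₀CompFunctorForgetOfIsThin ..

/-- The total space. -/
def total : Scheme.{u} := (glueData E).glued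

/-- The projection. -/
def proj : total E ⟶ S := (glueData E).toBase

/-- A chart. -/
def chart (U : S.AffineZariskiSite) : Spec ((diagram E).obj (op U)) ⟶ total E := (glueData E).cover.f U

instance (U : S.AffineZariskiSite) : IsOpenImmersion (chart E U) := (glueData E).cover.map_prop _

theorem chart_proj (U : S.AffineZariskiSite) :
    chart E U ≫ proj E = Spec.map ((diagramMap E).app (op U)) ≫ U.2.fromSpec :=
  colimit.ι_desc _ _

theorem proj_preimage (U : S.AffineZariskiSite) : proj E ⁻¹ᵁ U.1 = (chart E U).opensRange := by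
  simpa using! (glueData E).toBase_preimage_eq_opensRange_ι U

instance isAffineHom_proj : IsAffineHom (proj E) where
  isAffine_preimage U hU := by
    rw [proj_preimage E ⟨U, hU⟩]
    exact isAffineOpen_opensRange (chart E ⟨U, hU⟩)

theorem chart_res {U V : S.AffineZariskiSite} (i : V ⟶ U) :
    Spec.map ((diagram E).map i.op) ≫ chart E U = chart E V :=
  colimit.w (glueData E).functor i

theorem top_le (U : S.AffineZariskiSite) : ⊤ ≤ chart E U ⁻¹ᵁ (proj E ⁻¹ᵁ U.1) := by
  rw [← Scheme.Hom.comp_preimage, chart_proj, Scheme.Hom.comp_preimage]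
  exact le_of_le_of_eq le_top (congrArg (fun W => Spec.map _ ⁻¹ᵁ W) U.2.fromSpec_preimage_self).symm

/-- Functions over an affine open. -/
def gamma (U : S.AffineZariskiSite) : Γ(total E, proj E ⁻¹ᵁ U.1) ⟶ (diagram E).obj (op U) :=
  (chart E U).appLE (proj E ⁻¹ᵁ U.1) ⊤ (top_le E U) ≫ (Scheme.ΓSpecIso ((diagram E).obj (op U))).hom

instance isIso_gamma (U : S.AffineZariskiSite) : IsIso (gamma E U) := by
  haveI : IsIso ((chart E U).app (proj E ⁻¹ᵁ U.1)) := (chart E U).isIso_app _ (proj_preimage E U).le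
  have h : chart E U ⁻¹ᵁ (proj E ⁻¹ᵁ U.1) = ⊤ := top_le_iff.1 (top_le E U)
  haveI : IsIso ((Spec ((diagram E).obj (op U))).presheaf.map (homOfLE (top_le E U)).op) := by
    rw [show homOfLE (top_le E U) = eqToHom h.symm from Subsingleton.elim _ _]
    infer_instance
  rw [gamma, Scheme.Hom.appLE]
  infer_instance

set_option backward.isDefEq.respectTransparency false in
theorem gamma_res {U V : S.AffineZariskiSite} (i : V ⟶ U) :
    (total E).presheaf.map (homOfLE ((proj E).preimage_mono (toOpens_mono i.le))).op ≫ gamma E V =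
      gamma E U ≫ (diagram E).map i.op := by
  simp only [gamma, Category.assoc, ← Scheme.ΓSpecIso_naturality]
  simp only [← Category.assoc]
  congr 1
  simp only [Scheme.Hom.appTop, Scheme.Hom.appLE, Category.assoc]
  have h1 := (Scheme.Hom.comp_app (Spec.map ((diagram E).map i.op)) (chart E U) (proj E ⁻¹ᵁ U.1)).symm
  rw [Scheme.Hom.naturality_assoc, Scheme.Hom.naturality, reassoc_of% h1,
    Scheme.Hom.congr_app (chart_res E i), Category.assoc, ← Functor.map_comp, ← Functor.map_comp]
  rfl

set_option backward.isDefEq.respectTransparency false in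
theorem proj_gamma (U : S.AffineZariskiSite) :
    (proj E).app U.1 ≫ gamma E U = (diagramMap E).app (op U) := by
  have h1 := Scheme.Hom.congr_app (chart_proj E U) U.1
  have h2 := (Scheme.Hom.comp_app (chart E U) (proj E) U.1).symm
  have hk : ∀ k : (op ⊤ : (Spec ((diagram E).obj (op U))).Opensᵒᵖ) ⟶ op ⊤,
      (Spec ((diagram E).obj (op U))).presheaf.map k = 𝟙 _ := fun k => by
    rw [Subsingleton.elim k (𝟙 _)]; exact CategoryTheory.Functor.map_id _ _
  simp only [gamma, Scheme.Hom.appLE, Category.assoc]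
  rw [reassoc_of% h2, h1, Scheme.Hom.comp_app, U.2.fromSpec_app_self]
  simp only [Category.assoc]
  rw [Scheme.Hom.naturality_assoc]
  simp only [← Functor.map_comp_assoc]
  erw [hk, Category.id_comp]
  rw [← cancel_epi (Scheme.ΓSpecIso Γ(S, U.1)).hom, Iso.hom_inv_id_assoc]
  erw [Scheme.ΓSpecIso_naturality]
  rfl

/-- The symmetric algebra. -/
def symAlg : RelSpec.QCAlg S := RelSpec.QCAlg.directImage (proj E)

/-- The inverse of `gamma`. -/
abbrev gi (U : S.AffineZariskiSite) : SymmetricAlgebra Γ(S, U.1) Γ(E, U.1) →+* Γ(total E, proj E ⁻¹ᵁ U.1) :=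
  (inv (gamma E U)).hom

theorem gi_algebraMap (U : S.AffineZariskiSite) (a : Γ(S, U.1)) :
    gi E U (algebraMap _ _ a) = (proj E).app U.1 a := by
  have h : (proj E).app U.1 = (diagramMap E).app (op U) ≫ inv (gamma E U) :=
    (IsIso.eq_comp_inv _).2 (proj_gamma E U)
  rw [h]
  rfl

theorem inv_gamma_res {U V : S.AffineZariskiSite} (i : V ⟶ U) :
    inv (gamma E U) ≫ (total E).presheaf.map (homOfLE ((proj E).preimage_mono (toOpens_mono i.le))).op =
      (diagram E).map i.op ≫ inv (gamma E V) := by
  rw [IsIso.inv_comp_eq, ← Category.assoc, IsIso.eq_comp_inv, gamma_res]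

/-- The generators on affine opens. -/
def jAff : (toOpensFunctor S).op ⋙ E.presheaf ⟶ (toOpensFunctor S).op ⋙ (symAlg E).toAb where
  app U := AddCommGrpCat.ofHom
    ((gi E U.unop).toAddMonoidHom.comp (SymmetricAlgebra.ι Γ(S, U.unop.1) Γ(E, U.unop.1)).toAddMonoidHom)
  naturality U V i := by
    ext m
    show gi E V.unop (SymmetricAlgebra.ι _ _ (E.presheaf.map (homOfLE (toOpens_mono i.unop.le)).op m)) =
      (total E).presheaf.map (homOfLE ((proj E).preimage_mono (toOpens_mono i.unop.le))).op
        (gi E U.unop (SymmetricAlgebra.ι _ _ m))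
    rw [← symRes_ι E (toOpens_mono i.unop.le) m]
    exact (congr($(inv_gamma_res E i.unop) (SymmetricAlgebra.ι Γ(S, U.unop.1) Γ(E, U.unop.1) m))).symm

/-- The generators, additively. -/
def jAdd : E.presheaf ⟶ (symAlg E).toAb :=
  Functor.IsCoverDense.restrictHomEquivHom (G := toOpensFunctor S)
    (K := Opens.grothendieckTopology S) (ℱ := E.presheaf)
    (ℱ' := (⟨(symAlg E).toAb, (symAlg E).isSheaf_toAb⟩ : TopCat.Sheaf AddCommGrpCat.{u} S.carrier)) (jAff E)

theorem jAdd_app (U : S.AffineZariskiSite) : (jAdd E).app (op U.1) = (jAff E).app (op U) :=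
  NatTrans.congr_app
    ((Functor.IsCoverDense.restrictHomEquivHom (G := toOpensFunctor S)
      (K := Opens.grothendieckTopology S) (ℱ := E.presheaf)
      (ℱ' := (⟨(symAlg E).toAb, (symAlg E).isSheaf_toAb⟩ : TopCat.Sheaf AddCommGrpCat.{u} S.carrier))).symm_apply_apply
        (jAff E)) (op U)

theorem jAdd_smul (W : S.Opens) (r : Γ(S, W)) (m : Γ(E, W)) :
    (show Γ(total E, proj E ⁻¹ᵁ W) from (jAdd E).app (op W) (r • m)) =
      (proj E).app W r * (show Γ(total E, proj E ⁻¹ᵁ W) from (jAdd E).app (op W) m) := by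
  refine TopCat.Presheaf.section_ext (total E).sheaf _ _ _ fun y hy => ?_
  obtain ⟨V, hV, hyV, hle⟩ := exists_isAffineOpen_mem_and_subset (X := S) (x := proj E y) (U := W) hy
  let V' : S.AffineZariskiSite := ⟨V, hV⟩
  let R := (total E).presheaf.map (homOfLE ((proj E).preimage_mono (show V ≤ W from hle))).op
  suffices R (show Γ(total E, proj E ⁻¹ᵁ W) from (jAdd E).app (op W) (r • m)) =
      R ((proj E).app W r * (show Γ(total E, proj E ⁻¹ᵁ W) from (jAdd E).app (op W) m)) by
    have h := congrArg ((total E).presheaf.germ (proj E ⁻¹ᵁ V) y hyV) this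
    dsimp only [R] at h
    erw [TopCat.Presheaf.germ_res_apply, TopCat.Presheaf.germ_res_apply] at h
    exact h
  have hn : ∀ z : Γ(E, W), R (show Γ(total E, proj E ⁻¹ᵁ W) from (jAdd E).app (op W) z) =
      gi E V' (SymmetricAlgebra.ι _ _ (E.presheaf.map (homOfLE (show V ≤ W from hle)).op z)) := fun z =>
    (congr($((jAdd E).naturality (homOfLE (show V ≤ W from hle)).op) z)).symm.trans
      congr($(jAdd_app E V') (E.presheaf.map (homOfLE (show V ≤ W from hle)).op z))
  have hp : R ((proj E).app W r) =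
      gi E V' (algebraMap _ _ (S.presheaf.map (homOfLE (show V ≤ W from hle)).op r)) := by
    refine (congr($((proj E).naturality (homOfLE (show V ≤ W from hle)).op) r)).symm.trans ?_
    exact (gi_algebraMap E V' _).symm
  rw [hn, map_mul, hp, hn, ← map_mul, QCohLib.map_smul' E, map_smul, Algebra.smul_def]

/-- The generators. -/
def symι : E ⟶ (symAlg E).toModule :=
  ⟨letI := (symAlg E).moduleSect
   PresheafOfModules.homMk (jAdd E) fun W r m => jAdd_smul E W.unop r m⟩

theorem symι_app (U : S.AffineZariskiSite) (m : Γ(E, U.1)) :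
    (show Γ(total E, proj E ⁻¹ᵁ U.1) from (symι E).app U.1 m) = gi E U (SymmetricAlgebra.ι _ _ m) :=
  congr($(jAdd_app E U) m)

variable (B : RelSpec.QCAlg S) (φ : E ⟶ B.toModule)

/-- The induced map on an affine open. -/
def liftObj (U : S.Opens) : symObj E U ⟶ B.presheaf.obj (op U) :=
  letI : Algebra Γ(S, U) (B.presheaf.obj (op U)) := (B.str.app (op U)).hom.toAlgebra
  CommRingCat.ofHom (SymmetricAlgebra.lift
    ({ toFun := fun m => (φ.app U m : B.presheaf.obj (op U))
       map_add' := fun a b => map_add (φ.app U).hom a b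
       map_smul' := fun r m => QCohLib.app_smul φ U r m } :
      Γ(E, U) →ₗ[Γ(S, U)] B.presheaf.obj (op U))).toRingHom

theorem liftObj_algebraMap (U : S.Opens) (a : Γ(S, U)) :
    liftObj E B φ U (algebraMap _ _ a) = B.str.app (op U) a := by
  letI : Algebra Γ(S, U) (B.presheaf.obj (op U)) := (B.str.app (op U)).hom.toAlgebra
  exact AlgHom.commutes (SymmetricAlgebra.lift _) a

theorem liftObj_ι (U : S.Opens) (m : Γ(E, U)) :
    liftObj E B φ U (SymmetricAlgebra.ι _ _ m) = φ.app U m := by
  letI : Algebra Γ(S, U) (B.presheaf.obj (op U)) := (B.str.app (op U)).hom.toAlgebra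
  show SymmetricAlgebra.lift _ (SymmetricAlgebra.ι _ _ m) = _
  rw [SymmetricAlgebra.lift_ι_apply]
  rfl

theorem liftObj_res {U V : S.Opens} (h : V ≤ U) :
    (CommRingCat.ofHom (symRes E h) : symObj E U ⟶ symObj E V) ≫ liftObj E B φ V =
      liftObj E B φ U ≫ B.presheaf.map (homOfLE h).op := by
  refine CommRingCat.hom_ext (ringHom_ext (fun a => ?_) fun m => ?_)
  · show liftObj E B φ V (symRes E h (algebraMap _ _ a)) = B.presheaf.map _ (liftObj E B φ U (algebraMap _ _ a))
    rw [symRes_algebraMap, liftObj_algebraMap, liftObj_algebraMap]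
    exact congr($(B.str.naturality (homOfLE h).op) a)
  · show liftObj E B φ V (symRes E h (SymmetricAlgebra.ι _ _ m)) = B.presheaf.map _ (liftObj E B φ U (SymmetricAlgebra.ι _ _ m))
    rw [symRes_ι, liftObj_ι, liftObj_ι]
    exact QCohLib.app_map φ (homOfLE h) m

/-- The induced map on the affine opens. -/
def liftAff : (toOpensFunctor S).op ⋙ (symAlg E).presheaf ⟶ (toOpensFunctor S).op ⋙ B.presheaf where
  app U := gamma E U.unop ≫ liftObj E B φ U.unop.1
  naturality U V i := by
    refine (Category.assoc _ _ _).symm.trans ((congrArg (· ≫ liftObj E B φ V.unop.1) (gamma_res E i.unop)).trans ?_)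
    exact (Category.assoc _ _ _).trans ((congrArg (gamma E U.unop ≫ ·)
      (liftObj_res E B φ (toOpens_mono i.unop.le))).trans (Category.assoc _ _ _).symm)

omit φ in
/-- Algebra maps agree if they agree on affine opens. -/
theorem pre_ext {F : TopCat.Presheaf CommRingCat.{u} S.carrier} {a b : F ⟶ B.presheaf}
    (h : ∀ U : S.AffineZariskiSite, a.app (op U.1) = b.app (op U.1)) : a = b := by
  apply (Functor.IsCoverDense.restrictHomEquivHom (G := toOpensFunctor S)
    (K := Opens.grothendieckTopology S) (ℱ := F)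
    (ℱ' := (⟨B.presheaf, B.isSheaf⟩ : TopCat.Sheaf CommRingCat.{u} S.carrier))).symm.injective
  ext U : 2
  exact h U.unop

/-- The universal property. -/
theorem existsUnique_lift : ∃! ψ : symAlg E ⟶ B, symι E ≫ RelSpec.QCAlg.Hom.toModuleMap ψ = φ := by
  let ψ₀ : (symAlg E).presheaf ⟶ B.presheaf :=
    Functor.IsCoverDense.restrictHomEquivHom (G := toOpensFunctor S)
      (K := Opens.grothendieckTopology S) (ℱ := (symAlg E).presheaf)
      (ℱ' := (⟨B.presheaf, B.isSheaf⟩ : TopCat.Sheaf CommRingCat.{u} S.carrier)) (liftAff E B φ)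
  have hψ₀ : ∀ U : S.AffineZariskiSite, ψ₀.app (op U.1) = gamma E U ≫ liftObj E B φ U.1 := fun U =>
    NatTrans.congr_app
      ((Functor.IsCoverDense.restrictHomEquivHom (G := toOpensFunctor S)
        (K := Opens.grothendieckTopology S) (ℱ := (symAlg E).presheaf)
        (ℱ' := (⟨B.presheaf, B.isSheaf⟩ : TopCat.Sheaf CommRingCat.{u} S.carrier))).symm_apply_apply
          (liftAff E B φ)) (op U)
  let ψ : symAlg E ⟶ B := ⟨ψ₀, pre_ext B fun U => by
    show (proj E).app U.1 ≫ ψ₀.app (op U.1) = B.str.app (op U.1)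
    rw [hψ₀, ← Category.assoc, proj_gamma]
    exact CommRingCat.hom_ext (RingHom.ext fun a => liftObj_algebraMap E B φ U.1 a)⟩
  have hext : ∀ {a b : E ⟶ B.toModule}, (∀ (U : S.AffineZariskiSite) (m : Γ(E, U.1)), a.app U.1 m = b.app U.1 m) →
      a = b := fun {a b} h => by
    refine Scheme.Modules.hom_ext _ _ fun W => ConcreteCategory.hom_ext _ _ fun m => ?_
    refine TopCat.Presheaf.section_ext ⟨B.toModule.presheaf, B.toModule.isSheaf⟩ _ _ _ fun y hy => ?_
    obtain ⟨V, hV, hyV, hle⟩ := exists_isAffineOpen_mem_and_subset (X := S) (x := y) (U := W) hy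
    have key : ∀ c : E ⟶ B.toModule, B.toModule.presheaf.germ W y hy (c.app W m) =
        B.toModule.presheaf.germ V y hyV (c.app V (E.presheaf.map (homOfLE (show V ≤ W from hle)).op m)) := fun c =>
      ((congrArg (B.toModule.presheaf.germ V y hyV) (QCohLib.app_map c (homOfLE (show V ≤ W from hle)) m)).trans
        (TopCat.Presheaf.germ_res_apply B.toModule.presheaf _ y hyV _)).symm
    exact ((key a).trans (congrArg _ (h ⟨V, hV⟩ _))).trans (key b).symm
  refine ⟨ψ, hext fun U m => ?_, fun ψ' hψ' => ?_⟩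
  · show (ψ₀.app (op U.1)).hom (show Γ(total E, proj E ⁻¹ᵁ U.1) from (symι E).app U.1 m) = φ.app U.1 m
    rw [hψ₀, symι_app]
    show liftObj E B φ U.1 ((inv (gamma E U) ≫ gamma E U) (SymmetricAlgebra.ι _ _ m)) = _
    rw [IsIso.inv_hom_id]
    exact liftObj_ι E B φ U.1 m
  · refine RelSpec.QCAlg.hom_ext (pre_ext B fun U => ?_)
    show ψ'.hom.app (op U.1) = ψ₀.app (op U.1)
    refine Eq.trans ?_ (hψ₀ U).symm
    refine (cancel_epi (inv (gamma E U))).1 (Eq.trans ?_ (IsIso.inv_hom_id_assoc (gamma E U) (liftObj E B φ U.1)).symm)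
    refine CommRingCat.hom_ext (ringHom_ext (fun a => ?_) fun m => ?_)
    · show ψ'.hom.app (op U.1) (gi E U (algebraMap _ _ a)) = liftObj E B φ U.1 (algebraMap _ _ a)
      rw [liftObj_algebraMap, ← ψ'.comm, gi_algebraMap]
      rfl
    · show ψ'.hom.app (op U.1) (gi E U (SymmetricAlgebra.ι _ _ m)) = liftObj E B φ U.1 _
      rw [liftObj_ι, ← symι_app, ← hψ']
      rfl

theorem isSymAlg : RelSpec.IsSymAlg E (symAlg E) (symι E) := fun B φ => existsUnique_lift E B φ

end SymAlgLib

end
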