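import Mathlib
import Groth.Agent.CycBdlLib.Pts
import Groth.Agent.SymAlgLib.Exists

/-!
# Points of the relative spectrum of a symmetric algebra
-/

set_option autoImplicit false
set_option linter.style.haveILetI false
set_option linter.unusedSectionVars false

universe u

open AlgebraicGeometry CategoryTheory CategoryTheory.Limits Opposite TopologicalSpace
open AlgebraicGeometry.Scheme.AffineZariskiSite

noncomputable section

namespace SymAlgLib

variable {S T : Scheme.{u}} {E : S.Modules} [hE : Coh.IsQCoh E] {A : RelSpec.QCAlg S} {j : E ⟶ A.toModule}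

theorem exists_iso (hA : RelSpec.IsSymAlg E A j) :
    ∃ e : symAlg E ≅ A, symι E ≫ RelSpec.QCAlg.Hom.toModuleMap e.hom = j := by
  obtain ⟨a, ha, -⟩ := existsUnique_lift E A j
  obtain ⟨b, hb, -⟩ := hA (symAlg E) (symι E)
  have h1 : ∀ {B C : RelSpec.QCAlg S} (f : symAlg E ⟶ B) (g : B ⟶ C),
      RelSpec.QCAlg.Hom.toModuleMap (f ≫ g) = RelSpec.QCAlg.Hom.toModuleMap f ≫ RelSpec.QCAlg.Hom.toModuleMap g :=
    fun f g => rfl
  refine ⟨⟨a, b, ?_, ?_⟩, ha⟩
  · obtain ⟨c, -, hu⟩ := existsUnique_lift E (symAlg E) (symι E)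
    rw [hu (a ≫ b) (show symι E ≫ RelSpec.QCAlg.Hom.toModuleMap (a ≫ b) = symι E by rw [h1, ← Category.assoc, ha, hb]),
      hu (𝟙 _) (Category.comp_id _)]
  · obtain ⟨c, -, hu⟩ := hA A j
    have h2 : j ≫ RelSpec.QCAlg.Hom.toModuleMap (b ≫ a) = j := by
      rw [show RelSpec.QCAlg.Hom.toModuleMap (b ≫ a) = RelSpec.QCAlg.Hom.toModuleMap b ≫
        RelSpec.QCAlg.Hom.toModuleMap a from rfl, ← Category.assoc, hb, ha]
    rw [hu (b ≫ a) h2, hu (𝟙 _) (Category.comp_id _)]

/-- On an affine open a symmetric algebra is the symmetric algebra of the sections. -/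
theorem exists_affineIso (hA : RelSpec.IsSymAlg E A j) (U : S.AffineZariskiSite) :
    ∃ e : (SymmetricAlgebra Γ(S, U.1) Γ(E, U.1)) ≃+* A.presheaf.obj (op U.1),
      (∀ a, e (algebraMap _ _ a) = A.str.app (op U.1) a) ∧ ∀ m, e (SymmetricAlgebra.ι _ _ m) = j.app U.1 m := by
  obtain ⟨i, hi⟩ := exists_iso hA
  let i' : (symAlg E).presheaf ≅ A.presheaf := ⟨i.hom.hom, i.inv.hom,
    congrArg RelSpec.QCAlg.Hom.hom i.hom_inv_id, congrArg RelSpec.QCAlg.Hom.hom i.inv_hom_id⟩
  refine ⟨((asIso (gamma E U)).symm ≪≫ i'.app (op U.1)).commRingCatIsoToRingEquiv, fun a => ?_, fun m => ?_⟩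
  · show i.hom.hom.app (op U.1) (gi E U (algebraMap _ _ a)) = _
    rw [gi_algebraMap, ← i.hom.comm]
    rfl
  · show i.hom.hom.app (op U.1) (gi E U (SymmetricAlgebra.ι _ _ m)) = _
    rw [← symι_app, ← hi]
    rfl

/-- The universal property on an affine open. -/
theorem existsUnique_hom (hA : RelSpec.IsSymAlg E A j) {U : S.Opens} (hU : IsAffineOpen U) {R : Type u} [CommRing R]
    (ρ : Γ(S, U) →+* R) (f : Γ(E, U) →+ R) (hf : ∀ a m, f (a • m) = ρ a * f m) :
    ∃! Φ : A.presheaf.obj (op U) →+* R, (∀ a, Φ (A.str.app (op U) a) = ρ a) ∧ ∀ m, Φ (j.app U m) = f m := by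
  obtain ⟨e, ha, hm⟩ := exists_affineIso hA ⟨U, hU⟩
  letI := ρ.toAlgebra
  let fl : Γ(E, U) →ₗ[Γ(S, U)] R := { f with map_smul' := hf }
  refine ⟨(SymmetricAlgebra.lift fl).toRingHom.comp e.symm.toRingHom, ⟨fun a => ?_, fun m => ?_⟩, fun Φ hΦ => ?_⟩
  · show SymmetricAlgebra.lift fl (e.symm (A.str.app (op U) a)) = _
    rw [← ha, RingEquiv.symm_apply_apply]
    exact AlgHom.commutes _ a
  · show SymmetricAlgebra.lift fl (e.symm (j.app U m)) = _
    rw [← hm, RingEquiv.symm_apply_apply, SymmetricAlgebra.lift_ι_apply]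
    rfl
  · have key : Φ.comp e.toRingHom = (SymmetricAlgebra.lift fl).toRingHom := by
      refine ringHom_ext (fun a => ?_) fun m => ?_
      · show Φ (e (algebraMap _ _ a)) = SymmetricAlgebra.lift fl (algebraMap _ _ a)
        rw [ha, hΦ.1, AlgHom.commutes]
        rfl
      · show Φ (e (SymmetricAlgebra.ι _ _ m)) = SymmetricAlgebra.lift fl (SymmetricAlgebra.ι _ _ m)
        rw [hm, hΦ.2, SymmetricAlgebra.lift_ι_apply]
        rfl
    rw [← key]
    ext x
    show Φ x = Φ (e (e.symm x))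
    rw [RingEquiv.apply_symm_apply]

open CycBdlLib (toF preimage_le univMap)

theorem toF_str_app (A : RelSpec.QCAlg S) (U : S.Opens) (a : Γ(S, U)) :
    (toF A).app (op U) (A.str.app (op U) a) = A.π.app U a := by
  have h := congr($(NatTrans.congr_app (CycBdlLib.str_toF A) (op U)) a)
  exact h

/-- Morphisms to the relative spectrum of a symmetric algebra, over an arbitrary scheme. -/
theorem symPts (hA : RelSpec.IsSymAlg E A j) (g : T ⟶ S)
    (ψ : E ⟶ (Scheme.Modules.pushforward g).obj (Coh.structureModule T)) :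
    ∃! h : T ⟶ A.spec, ∃ hg : h ≫ A.π = g, ∀ (W : S.Opens) (m : Γ(E, W)),
      h.appLE (A.π ⁻¹ᵁ W) (g ⁻¹ᵁ W) (preimage_le hg W) ((univMap j).app W m) = ψ.app W m := by
  have hloc := fun U : S.AffineZariskiSite => existsUnique_hom hA U.2 (R := Γ(T, g ⁻¹ᵁ U.1))
    (g.app U.1).hom (AddMonoidHom.mk' (fun m => ψ.app U.1 m) fun a b => map_add (ψ.app U.1).hom a b)
    fun a m => QCohLib.app_smul ψ U.1 a m
  choose Φ hΦ using fun U => (hloc U).exists
  -- compatibility
  let ω₀ : (toOpensFunctor S).op ⋙ A.presheaf ⟶ (toOpensFunctor S).op ⋙ AffAlg.alg g :=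
    { app := fun U => CommRingCat.ofHom (Φ U.unop)
      naturality := fun U V i => by
        have hle := toOpens_mono i.unop.le
        obtain ⟨_, -, hu⟩ := existsUnique_hom hA U.unop.2 (R := Γ(T, g ⁻¹ᵁ V.unop.1))
          ((T.presheaf.map (homOfLE (g.preimage_mono hle)).op).hom.comp (g.app U.unop.1).hom)
          ((T.presheaf.map (homOfLE (g.preimage_mono hle)).op).hom.toAddMonoidHom.comp
            (AddMonoidHom.mk' (fun m => ψ.app U.unop.1 m) fun a b => map_add (ψ.app U.unop.1).hom a b))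
          fun a m => (congrArg (T.presheaf.map (homOfLE (g.preimage_mono hle)).op).hom (QCohLib.app_smul ψ U.unop.1 a m)).trans
            (map_mul (T.presheaf.map (homOfLE (g.preimage_mono hle)).op).hom _ _)
        refine CommRingCat.hom_ext ((hu _ ⟨fun a => ?_, fun m => ?_⟩).trans (hu _ ⟨fun a => ?_, fun m => ?_⟩).symm)
        · show Φ V.unop (A.presheaf.map (homOfLE hle).op (A.str.app (op U.unop.1) a)) = _
          rw [show A.presheaf.map (homOfLE hle).op (A.str.app (op U.unop.1) a) =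
              A.str.app (op V.unop.1) (S.presheaf.map (homOfLE hle).op a) from
            (congr($(A.str.naturality (homOfLE hle).op) a)).symm, (hΦ V.unop).1]
          exact congr($(g.naturality (homOfLE hle).op) a)
        · show Φ V.unop (A.presheaf.map (homOfLE hle).op (j.app U.unop.1 m)) = _
          rw [show A.presheaf.map (homOfLE hle).op (j.app U.unop.1 m) =
              j.app V.unop.1 (E.presheaf.map (homOfLE hle).op m) from (QCohLib.app_map j (homOfLE hle) m).symm,
            (hΦ V.unop).2]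
          exact QCohLib.app_map ψ (homOfLE hle) m
        · show T.presheaf.map (homOfLE (g.preimage_mono hle)).op (Φ U.unop (A.str.app (op U.unop.1) a)) = _
          rw [(hΦ U.unop).1]
          rfl
        · show T.presheaf.map (homOfLE (g.preimage_mono hle)).op (Φ U.unop (j.app U.unop.1 m)) = _
          rw [(hΦ U.unop).2]
          rfl }
  let R : Functor.IsCoverDense (toOpensFunctor S) (Opens.grothendieckTopology S) := inferInstance
  let G : TopCat.Sheaf CommRingCat.{u} S.carrier :=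
    ⟨AffAlg.alg g, TopCat.Sheaf.pushforward_sheaf_of_sheaf _ T.sheaf.property⟩
  let ω : A.presheaf ⟶ AffAlg.alg g := Functor.IsCoverDense.restrictHomEquivHom (G := toOpensFunctor S)
    (K := Opens.grothendieckTopology S) (ℱ := A.presheaf) (ℱ' := G) ω₀
  have hω : ∀ U : S.AffineZariskiSite, ω.app (op U.1) = CommRingCat.ofHom (Φ U) := fun U =>
    NatTrans.congr_app
      ((Functor.IsCoverDense.restrictHomEquivHom (G := toOpensFunctor S)
        (K := Opens.grothendieckTopology S) (ℱ := A.presheaf) (ℱ' := G)).symm_apply_apply ω₀) (op U)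
  have hωc : A.π.c ≫ A.gammaMap ≫ ω = g.c := by
    rw [← Category.assoc, A.π_c_gammaMap]
    apply (Functor.IsCoverDense.restrictHomEquivHom (G := toOpensFunctor S)
      (K := Opens.grothendieckTopology S) (ℱ := S.presheaf) (ℱ' := G)).symm.injective
    ext U : 2
    show A.str.app (op U.unop.1) ≫ ω.app (op U.unop.1) = g.c.app (op U.unop.1)
    rw [hω]
    exact CommRingCat.hom_ext (RingHom.ext fun a => (hΦ U.unop).1 a)
  have hval : ∀ (h : T ⟶ A.spec) (hg : h ≫ A.π = g) (W : S.Opens) (a : A.presheaf.obj (op W)),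
      ((toF A ≫ AffAlg.algHom A.π g h hg).app (op W)).hom a =
        h.appLE (A.π ⁻¹ᵁ W) (g ⁻¹ᵁ W) (preimage_le hg W) ((toF A).app (op W) a) :=
    fun h hg => CycBdlLib.toF_algHom_app A g h hg
  obtain ⟨⟨h, hg⟩, eh⟩ := (Groth.Agent.S3569.result A.π g).2 ⟨A.gammaMap ≫ ω, hωc⟩
  have eh' : toF A ≫ AffAlg.algHom A.π g h hg = ω := by
    rw [show AffAlg.algHom A.π g h hg = A.gammaMap ≫ ω from congrArg Subtype.val eh]
    exact IsIso.inv_hom_id_assoc A.gammaMap ω
  have hsec : ∀ (W : S.Opens) (m : Γ(E, W)), h.appLE (A.π ⁻¹ᵁ W) (g ⁻¹ᵁ W) (preimage_le hg W) ((univMap j).app W m) =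
      ψ.app W m := fun W m => by
    rw [CycBdlLib.univMap_app, ← hval h hg, eh']
    refine TopCat.Presheaf.section_ext T.sheaf _ _ _ fun y hy => ?_
    obtain ⟨V, hV, hyV, hle⟩ := exists_isAffineOpen_mem_and_subset (X := S) (x := g y) (U := W) hy
    have hle' : V ≤ W := hle
    have h1 : T.presheaf.map (homOfLE (g.preimage_mono hle')).op ((ω.app (op W)).hom (j.app W m)) =
        T.presheaf.map (homOfLE (g.preimage_mono hle')).op (ψ.app W m : Γ(T, g ⁻¹ᵁ W)) := by
      refine (congr($(ω.naturality (homOfLE hle').op) (j.app W m))).symm.trans ?_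
      show ω.app (op V) (A.presheaf.map (homOfLE hle').op (j.app W m)) = _
      rw [show A.presheaf.map (homOfLE hle').op (j.app W m) = j.app V (E.presheaf.map (homOfLE hle').op m) from
        (QCohLib.app_map j (homOfLE hle') m).symm, hω ⟨V, hV⟩]
      exact ((hΦ ⟨V, hV⟩).2 _).trans (QCohLib.app_map ψ (homOfLE hle') m)
    have h2 := congrArg (T.presheaf.germ (g ⁻¹ᵁ V) y hyV) h1
    erw [TopCat.Presheaf.germ_res_apply, TopCat.Presheaf.germ_res_apply] at h2
    exact h2
  refine ⟨h, ⟨hg, hsec⟩, ?_⟩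
  rintro h' ⟨hg', e'⟩
  refine congrArg Subtype.val ((Groth.Agent.S3569.result A.π g).1 (a₁ := ⟨h', hg'⟩) (a₂ := ⟨h, hg⟩) (Subtype.ext ?_))
  show AffAlg.algHom A.π g h' hg' = AffAlg.algHom A.π g h hg
  haveI : Epi (toF A) := by unfold toF; infer_instance
  rw [← cancel_epi (toF A), eh']
  apply (Functor.IsCoverDense.restrictHomEquivHom (G := toOpensFunctor S)
    (K := Opens.grothendieckTopology S) (ℱ := A.presheaf) (ℱ' := G)).symm.injective
  ext U : 2
  show (toF A ≫ AffAlg.algHom A.π g h' hg').app (op U.unop.1) = ω.app (op U.unop.1)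
  rw [hω]
  refine CommRingCat.hom_ext ((hloc U.unop).unique ⟨fun a => ?_, fun m => ?_⟩ (hΦ U.unop))
  · show ((toF A ≫ AffAlg.algHom A.π g h' hg').app (op U.unop.1)).hom (A.str.app (op U.unop.1) a) = _
    rw [hval, toF_str_app, Scheme.Hom.app_eq_appLE, Scheme.Hom.app_eq_appLE, ← CommRingCat.comp_apply,
      Scheme.Hom.appLE_comp_appLE]
    congr 2
    simp only [hg']
  · show ((toF A ≫ AffAlg.algHom A.π g h' hg').app (op U.unop.1)).hom (j.app U.unop.1 m) = _
    rw [hval]
    exact e' _ _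

end SymAlgLib

end
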