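import Mathlib
import Groth.Agent.CycBdlLib.Spec
import Groth.Agent.SymAlgLib.Pts

/-!
# Functoriality of vector bundles
-/

set_option autoImplicit false
set_option linter.style.haveILetI false
set_option linter.unusedSectionVars false

universe u

open AlgebraicGeometry CategoryTheory CategoryTheory.Limits Opposite TopologicalSpace
open CycBdlLib (toF preimage_le univMap)

noncomputable section

namespace SymAlgLib

variable {S T : Scheme.{u}} {E F : S.Modules} {A B : RelSpec.QCAlg S} {j : E ⟶ A.toModule} {k : F ⟶ B.toModule}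

/-- The universal families are compatible with the induced map of bundles. -/
theorem specMap_univ (φ : A ⟶ B) (a : E ⟶ F) (hφ : j ≫ RelSpec.QCAlg.Hom.toModuleMap φ = a ≫ k) (W : S.Opens)
    (m : Γ(E, W)) :
    (RelSpec.QCAlg.specMap φ).appLE (A.π ⁻¹ᵁ W) (B.π ⁻¹ᵁ W) (preimage_le (RelSpec.QCAlg.specMap_π φ) W)
      ((univMap j).app W m) = (univMap k).app W (a.app W m) := by
  rw [CycBdlLib.univMap_app, ← CycBdlLib.toF_algHom_app A B.π _ (RelSpec.QCAlg.specMap_π φ), CycBdlLib.toF_specMap]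
  exact congrArg ((toF B).app (op W)) congr($(hφ).app W m)

variable [hE : Coh.IsQCoh E]

/-- Maps into a bundle agreeing on the universal family are equal. -/
theorem hom_ext (hA : RelSpec.IsSymAlg E A j) {g : T ⟶ S} {h h' : T ⟶ A.spec} (hg : h ≫ A.π = g) (hg' : h' ≫ A.π = g)
    (e : ∀ (W : S.Opens) (m : Γ(E, W)), h.appLE (A.π ⁻¹ᵁ W) (g ⁻¹ᵁ W) (preimage_le hg W) ((univMap j).app W m) =
      h'.appLE (A.π ⁻¹ᵁ W) (g ⁻¹ᵁ W) (preimage_le hg' W) ((univMap j).app W m)) : h = h' :=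
  (symPts hA g (CycBdlLib.pullVal hg (univMap j))).unique ⟨hg, fun _ _ => rfl⟩ ⟨hg', fun W m => (e W m).symm⟩

/-- The bundle of a sum is the fibre product. -/
theorem isPullback_biprod [hF : Coh.IsQCoh F] {C : RelSpec.QCAlg S} {l : E ⊞ F ⟶ C.toModule}
    (hA : RelSpec.IsSymAlg E A j) (hB : RelSpec.IsSymAlg F B k) [Coh.IsQCoh (E ⊞ F)] (hC : RelSpec.IsSymAlg (E ⊞ F) C l)
    (ψ₁ : A ⟶ C) (ψ₂ : B ⟶ C) (h₁ : j ≫ RelSpec.QCAlg.Hom.toModuleMap ψ₁ = biprod.inl ≫ l)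
    (h₂ : k ≫ RelSpec.QCAlg.Hom.toModuleMap ψ₂ = biprod.inr ≫ l) :
    IsPullback (RelSpec.QCAlg.specMap ψ₁) (RelSpec.QCAlg.specMap ψ₂) A.π B.π := by
  have w : RelSpec.QCAlg.specMap ψ₁ ≫ A.π = RelSpec.QCAlg.specMap ψ₂ ≫ B.π := by
    rw [RelSpec.QCAlg.specMap_π, RelSpec.QCAlg.specMap_π]
  have key : ∀ (T : Scheme.{u}) (x : T ⟶ A.spec) (y : T ⟶ B.spec) (e : x ≫ A.π = y ≫ B.π),
      ∃! h : T ⟶ C.spec, h ≫ RelSpec.QCAlg.specMap ψ₁ = x ∧ h ≫ RelSpec.QCAlg.specMap ψ₂ = y := by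
    intro T x y e
    let g := x ≫ A.π
    let ψ := biprod.desc (CycBdlLib.pullVal (rfl : x ≫ A.π = g) (univMap j))
      (CycBdlLib.pullVal (e.symm : y ≫ B.π = g) (univMap k))
    obtain ⟨h, ⟨hg, hv⟩, hu⟩ := symPts hC g ψ
    have hψl : ∀ (W : S.Opens) (m : Γ(E, W)), ψ.app W ((biprod.inl : E ⟶ E ⊞ F).app W m) =
        x.appLE (A.π ⁻¹ᵁ W) (g ⁻¹ᵁ W) (preimage_le rfl W) ((univMap j).app W m) := fun W m =>
      congr($(biprod.inl_desc (CycBdlLib.pullVal (rfl : x ≫ A.π = g) (univMap j))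
        (CycBdlLib.pullVal (e.symm : y ≫ B.π = g) (univMap k))).app W m)
    have hψr : ∀ (W : S.Opens) (m : Γ(F, W)), ψ.app W ((biprod.inr : F ⟶ E ⊞ F).app W m) =
        y.appLE (B.π ⁻¹ᵁ W) (g ⁻¹ᵁ W) (preimage_le e.symm W) ((univMap k).app W m) := fun W m =>
      congr($(biprod.inr_desc (CycBdlLib.pullVal (rfl : x ≫ A.π = g) (univMap j))
        (CycBdlLib.pullVal (e.symm : y ≫ B.π = g) (univMap k))).app W m)
    have gA : (h ≫ RelSpec.QCAlg.specMap ψ₁) ≫ A.π = g := by rw [Category.assoc, RelSpec.QCAlg.specMap_π, hg]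
    have gB : (h ≫ RelSpec.QCAlg.specMap ψ₂) ≫ B.π = g := by rw [Category.assoc, RelSpec.QCAlg.specMap_π, hg]
    refine ⟨h, ⟨hom_ext hA gA rfl fun W m => ?_, hom_ext hB gB e.symm fun W m => ?_⟩, ?_⟩
    · rw [← CycBdlLib.appLE_appLE (RelSpec.QCAlg.specMap_π ψ₁) hg, specMap_univ ψ₁ _ h₁, hv, hψl]
    · rw [← CycBdlLib.appLE_appLE (RelSpec.QCAlg.specMap_π ψ₂) hg, specMap_univ ψ₂ _ h₂, hv, hψr]
    rintro h' ⟨rfl, rfl⟩
    have hg' : h' ≫ C.π = g := by
      show _ = (h' ≫ RelSpec.QCAlg.specMap ψ₁) ≫ A.π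
      rw [Category.assoc, RelSpec.QCAlg.specMap_π]
    refine hu h' ⟨hg', fun W m => ?_⟩
    have e2 : CycBdlLib.pullVal hg' (univMap l) = ψ := by
      refine biprod.hom_ext' _ _ ?_ ?_ <;>
        refine Scheme.Modules.hom_ext _ _ fun W => ConcreteCategory.hom_ext _ _ fun m => ?_
      · exact ((congrArg (h'.appLE _ _ (preimage_le hg' W)) (specMap_univ ψ₁ _ h₁ W m).symm).trans
          (CycBdlLib.appLE_appLE (RelSpec.QCAlg.specMap_π ψ₁) hg' W _)).trans (hψl W m).symm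
      · exact ((congrArg (h'.appLE _ _ (preimage_le hg' W)) (specMap_univ ψ₂ _ h₂ W m).symm).trans
          (CycBdlLib.appLE_appLE (RelSpec.QCAlg.specMap_π ψ₂) hg' W _)).trans (hψr W m).symm
    exact congr($(e2).app W m)
  refine IsPullback.of_isLimit' ⟨w⟩ (PullbackCone.IsLimit.mk w (fun s => (key _ s.fst s.snd s.condition).exists.choose)
    (fun s => (key _ s.fst s.snd s.condition).exists.choose_spec.1)
    (fun s => (key _ s.fst s.snd s.condition).exists.choose_spec.2)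
    fun s m h₁' h₂' => (key _ s.fst s.snd s.condition).unique ⟨h₁', h₂'⟩
      (key _ s.fst s.snd s.condition).exists.choose_spec)

variable {S' : Scheme.{u}} {q : S' ⟶ S} {B' : RelSpec.QCAlg S'}

/-- The value of the universal family under the map induced by a `q`-morphism. -/
theorem specQ_toF (u : RelSpec.QHom q A B') (h : B'.spec ⟶ A.spec) (hh : RelSpec.IsSpecQMap u h)
    (hπ : h ≫ A.π = B'.π ≫ q) (W : S.Opens) (a : A.presheaf.obj (op W)) :
    h.appLE (A.π ⁻¹ᵁ W) (B'.π ⁻¹ᵁ (q ⁻¹ᵁ W)) (preimage_le hπ W) ((toF A).app (op W) a) =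
      (toF B').app (op (q ⁻¹ᵁ W)) (u.app W a) := by
  refine TopCat.Presheaf.section_ext B'.spec.sheaf _ _ _ fun y hy => ?_
  obtain ⟨U, hU, hyU, hle⟩ := exists_isAffineOpen_mem_and_subset (X := S) (x := q (B'.π y)) (U := W) hy
  obtain ⟨U', hU', hyU', hle'⟩ := exists_isAffineOpen_mem_and_subset (X := S') (x := B'.π y) (U := q ⁻¹ᵁ U) hyU
  have hUW : U ≤ W := hle
  have hU'U : U' ≤ q ⁻¹ᵁ U := hle'
  have hU'W : U' ≤ q ⁻¹ᵁ W := hU'U.trans (q.preimage_mono hUW)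
  have hπU : B'.π ⁻¹ᵁ U' ≤ h ⁻¹ᵁ (A.π ⁻¹ᵁ U) := fun z hz => preimage_le hπ U (hU'U hz)
  have key : h.appLE (A.π ⁻¹ᵁ U) (B'.π ⁻¹ᵁ U') hπU ≫ B'.gammaAff U' hU' = A.gammaAff U hU ≫ u.appLE U U' hU'U := by
    simp only [RelSpec.QCAlg.gammaAff, Category.assoc, ← Scheme.ΓSpecIso_naturality]
    simp only [← Category.assoc]
    congr 1
    rw [Scheme.Hom.appLE_comp_appLE]
    have h1 : ∀ {k k' : Spec (B'.presheaf.obj (op U')) ⟶ A.spec} (_ : k = k') (e : ⊤ ≤ k ⁻¹ᵁ (A.π ⁻¹ᵁ U))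
        (e' : ⊤ ≤ k' ⁻¹ᵁ (A.π ⁻¹ᵁ U)), k.appLE (A.π ⁻¹ᵁ U) ⊤ e = k'.appLE (A.π ⁻¹ᵁ U) ⊤ e' := by
      intro k k' e _ _; subst e; rfl
    rw [h1 (hh U hU U' hU' hU'U) _ (fun z _ => A.top_le_preimage U hU trivial),
      ← Scheme.Hom.appLE_comp_appLE _ _ (A.π ⁻¹ᵁ U) ⊤ ⊤ (A.top_le_preimage U hU) (le_refl _), Scheme.Hom.appTop]
    exact congrArg (_ ≫ ·) (Scheme.Hom.appLE_eq_app _)
  have hA : ∀ x, A.gammaAff U hU ((toF A).app (op U) x) = x := fun x => by
    rw [← A.gammaMap_app U hU]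
    exact congr($(NatTrans.congr_app (IsIso.inv_hom_id A.gammaMap) (op U)) x)
  have hB : ∀ x, (toF B').app (op U') (B'.gammaAff U' hU' x) = x := fun x => by
    rw [← B'.gammaMap_app U' hU']
    exact congr($(NatTrans.congr_app (IsIso.hom_inv_id B'.gammaMap) (op U')) x)
  have nA : A.spec.presheaf.map (homOfLE (A.π.preimage_mono hUW)).op ((toF A).app (op W) a) =
      (toF A).app (op U) (A.presheaf.map (homOfLE hUW).op a) :=
    congr($(((toF A).naturality (homOfLE hUW).op).symm) a)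
  have he : A.presheaf.map (homOfLE hUW).op ≫ u.appLE U U' hU'U = u.app W ≫ B'.presheaf.map (homOfLE hU'W).op := by
    rw [RelSpec.QHom.appLE, ← Category.assoc, ← u.naturality hUW, Category.assoc, ← Functor.map_comp]
    rfl
  have hu : B'.presheaf.map (homOfLE hU'W).op (u.app W a) = u.appLE U U' hU'U (A.presheaf.map (homOfLE hUW).op a) :=
    (congr($he a)).symm
  have h2 : B'.spec.presheaf.map (homOfLE (B'.π.preimage_mono hU'W)).op
        (h.appLE (A.π ⁻¹ᵁ W) (B'.π ⁻¹ᵁ (q ⁻¹ᵁ W)) (preimage_le hπ W) ((toF A).app (op W) a)) =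
      B'.spec.presheaf.map (homOfLE (B'.π.preimage_mono hU'W)).op ((toF B').app (op (q ⁻¹ᵁ W)) (u.app W a)) := by
    rw [← CommRingCat.comp_apply, Scheme.Hom.appLE_map,
      ← Scheme.Hom.map_appLE h hπU (homOfLE (A.π.preimage_mono hUW)).op, CommRingCat.comp_apply, nA,
      ← hB (h.appLE _ _ hπU _), ← CommRingCat.comp_apply _ (B'.gammaAff U' hU'), key, CommRingCat.comp_apply, hA, ← hu]
    exact congr($((toF B').naturality (homOfLE hU'W).op) (u.app W a))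
  have h3 := congrArg (B'.spec.presheaf.germ (B'.π ⁻¹ᵁ U') y hyU') h2
  exact (TopCat.Presheaf.germ_res_apply B'.spec.presheaf (homOfLE (B'.π.preimage_mono hU'W)) y hyU' _).symm.trans
    (h3.trans (TopCat.Presheaf.germ_res_apply B'.spec.presheaf (homOfLE (B'.π.preimage_mono hU'W)) y hyU' _))

theorem specQ_π (u : RelSpec.QHom q A B') (h : B'.spec ⟶ A.spec) (hh : RelSpec.IsSpecQMap u h) :
    h ≫ A.π = B'.π ≫ q := by
  refine Scheme.hom_ext_of_forall _ _ fun x => ?_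
  obtain ⟨U, hU, hxU, -⟩ := exists_isAffineOpen_mem_and_subset (X := S) (x := q (B'.π x)) (U := ⊤) trivial
  obtain ⟨U', hU', hxU', hle⟩ := exists_isAffineOpen_mem_and_subset (X := S') (x := B'.π x) (U := q ⁻¹ᵁ U) hxU
  have hle' : U' ≤ q ⁻¹ᵁ U := hle
  refine ⟨(B'.ι U' hU').opensRange, by rw [← B'.π_preimage U' hU']; exact hxU', ?_⟩
  have hs : A.str.app (op U) ≫ u.appLE U U' hle' = q.appLE U U' hle' ≫ B'.str.app (op U') := by
    rw [RelSpec.QHom.appLE, Scheme.Hom.appLE, ← Category.assoc, u.str_app, Category.assoc, Category.assoc,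
      B'.str.naturality]
  rw [← cancel_epi (B'.ι U' hU').isoOpensRange.hom, Scheme.Hom.isoOpensRange_hom_ι_assoc,
    Scheme.Hom.isoOpensRange_hom_ι_assoc, ← Category.assoc, hh U hU U' hU' hle', Category.assoc, A.ι_π,
    reassoc_of% (B'.ι_π U' hU'), ← Spec.map_comp_assoc, hs, Spec.map_comp_assoc,
    IsAffineOpen.SpecMap_appLE_fromSpec q hU hU' hle']

/-- Base change of a vector bundle. -/
theorem isPullback_baseChange (hA : RelSpec.IsSymAlg E A j) {j' : (Scheme.Modules.pullback q).obj E ⟶ B'.toModule}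
    [Coh.IsQCoh ((Scheme.Modules.pullback q).obj E)]
    (hB : RelSpec.IsSymAlg ((Scheme.Modules.pullback q).obj E) B' j') (u : RelSpec.QHom q A B')
    (hu : ∀ (U : S.Opens) (x : Γ(E, U)), (u.app U).hom ((j.app U) x) =
      (j'.app (q ⁻¹ᵁ U)) (((Scheme.Modules.pullbackPushforwardAdjunction q).unit.app E).app U x))
    (h : B'.spec ⟶ A.spec) (hh : RelSpec.IsSpecQMap u h) : IsPullback h B'.π A.π q := by
  have hπ := specQ_π u h hh
  have hvB : ∀ (W : S.Opens) (m : Γ(E, W)), h.appLE (A.π ⁻¹ᵁ W) (B'.π ⁻¹ᵁ (q ⁻¹ᵁ W)) (preimage_le hπ W)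
      ((univMap j).app W m) = (univMap j').app (q ⁻¹ᵁ W) (KFlatLib.puSec q m) := fun W m => by
    rw [CycBdlLib.univMap_app, specQ_toF u h hh hπ]
    exact congrArg ((toF B').app (op (q ⁻¹ᵁ W))) (hu W m)
  have key : ∀ (T : Scheme.{u}) (x : T ⟶ A.spec) (y : T ⟶ S') (e : x ≫ A.π = y ≫ q),
      ∃! l : T ⟶ B'.spec, l ≫ h = x ∧ l ≫ B'.π = y := by
    intro T x y e
    let Adj := Scheme.Modules.pullbackPushforwardAdjunction q
    let ψ₀ : E ⟶ (Scheme.Modules.pushforward q).obj ((Scheme.Modules.pushforward y).obj (Coh.structureModule T)) :=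
      CycBdlLib.pullVal e (univMap j) ≫ (Scheme.Modules.pushforwardComp y q).inv.app _
    let ψ' := (Adj.homEquiv _ _).symm ψ₀
    have hψ' : ∀ (W : S.Opens) (m : Γ(E, W)), ψ'.app (q ⁻¹ᵁ W) (KFlatLib.puSec q m) =
        x.appLE (A.π ⁻¹ᵁ W) ((y ≫ q) ⁻¹ᵁ W) (preimage_le e W) ((univMap j).app W m) := fun W m =>
      congr($((Adj.homEquiv_unit _ _ ψ').symm.trans (Equiv.apply_symm_apply _ ψ₀)).app W m)
    obtain ⟨l, ⟨hl, hlv⟩, hu'⟩ := symPts hB y ψ'
    have hlh : (l ≫ h) ≫ A.π = y ≫ q := by rw [Category.assoc, hπ, ← Category.assoc, hl]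
    refine ⟨l, ⟨hom_ext hA hlh e fun W m => ?_, hl⟩, ?_⟩
    · rw [← hψ' W m, ← hlv, ← hvB W m, ← CommRingCat.comp_apply, Scheme.Hom.appLE_comp_appLE]
      rfl
    · rintro l' ⟨rfl, rfl⟩
      refine hu' l' ⟨rfl, ?_⟩
      have e2 : CycBdlLib.pullVal (rfl : l' ≫ B'.π = _) (univMap j') = ψ' :=
        CycPBLib.hom_ext_pu q _ _ fun W m => by
          rw [CycBdlLib.pullVal_app, hψ', ← hvB W m, ← CommRingCat.comp_apply, Scheme.Hom.appLE_comp_appLE]
          rfl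
      exact fun W m => congr($(e2).app W m)
  refine IsPullback.of_isLimit' ⟨hπ⟩ (PullbackCone.IsLimit.mk hπ (fun s => (key _ s.fst s.snd s.condition).exists.choose)
    (fun s => (key _ s.fst s.snd s.condition).exists.choose_spec.1)
    (fun s => (key _ s.fst s.snd s.condition).exists.choose_spec.2)
    fun s m h₁' h₂' => (key _ s.fst s.snd s.condition).unique ⟨h₁', h₂'⟩
      (key _ s.fst s.snd s.condition).exists.choose_spec)

end SymAlgLib

end
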