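import Mathlib
import Groth.Agent.SymAlgLib.Pts
import Groth.Agent.SymAlgLib.Chart
import Groth.Agent.CycAffLib.Field
import Groth.Agent.CycPBLib.Fibre

/-!
# Polynomial charts of vector bundles
-/

set_option autoImplicit false
set_option linter.style.haveILetI false
set_option linter.unusedSectionVars false

universe u

open AlgebraicGeometry CategoryTheory CategoryTheory.Limits Opposite TopologicalSpace

noncomputable section

namespace SymAlgLib

variable {X : Scheme.{u}} {E : X.Modules} {A : RelSpec.QCAlg X} {j : E ⟶ A.toModule}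

/-- A chart on which the algebra is a polynomial ring. -/
structure PolyChart (A : RelSpec.QCAlg X) (r : ℕ) where
  U : X.Opens
  hU : IsAffineOpen U
  e : MvPolynomial (ULift.{u} (Fin r)) Γ(X, U) ≃+* A.presheaf.obj (op U)
  e_C : ∀ a, e (MvPolynomial.C a) = A.str.app (op U) a

/-- A basis of sections gives a chart. -/
theorem exists_polyChart [Coh.IsQCoh E] (hA : RelSpec.IsSymAlg E A j) {U : X.Opens} (hU : IsAffineOpen U) {r : ℕ}
    (b : Module.Basis (ULift.{u} (Fin r)) Γ(X, U) Γ(E, U)) :
    ∃ e : MvPolynomial (ULift.{u} (Fin r)) Γ(X, U) ≃+* A.presheaf.obj (op U),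
      (∀ a, e (MvPolynomial.C a) = A.str.app (op U) a) ∧ ∀ k, e (MvPolynomial.X k) = j.app U (b k) := by
  obtain ⟨e, ha, hm⟩ := exists_affineIso hA ⟨U, hU⟩
  refine ⟨(SymmetricAlgebra.equivMvPolynomial b).symm.toRingEquiv.trans e, fun a => ?_, fun k => ?_⟩
  · show e ((SymmetricAlgebra.equivMvPolynomial b).symm (MvPolynomial.C a)) = _
    rw [show (MvPolynomial.C a : MvPolynomial (ULift.{u} (Fin r)) Γ(X, U)) = algebraMap _ _ a from rfl,
      AlgEquiv.commutes]
    exact ha a
  · show e ((SymmetricAlgebra.equivMvPolynomial b).symm (MvPolynomial.X k)) = _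
    rw [SymmetricAlgebra.equivMvPolynomial_symm_X]
    exact hm _

namespace PolyChart

variable {r : ℕ} (c : PolyChart A r)

/-- The comparison isomorphism of rings. -/
def iso : CommRingCat.of (MvPolynomial (ULift.{u} (Fin r)) Γ(X, c.U)) ≅ A.presheaf.obj (op c.U) :=
  c.e.toCommRingCatIso

theorem C_iso : CommRingCat.ofHom (MvPolynomial.C : Γ(X, c.U) →+* MvPolynomial (ULift.{u} (Fin r)) Γ(X, c.U)) ≫
    c.iso.hom = A.str.app (op c.U) := CommRingCat.hom_ext (RingHom.ext c.e_C)

/-- The chart of the total space. -/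
def ch : Spec (CommRingCat.of (MvPolynomial (ULift.{u} (Fin r)) Γ(X, c.U))) ⟶ A.spec :=
  Spec.map c.iso.inv ≫ A.ι c.U c.hU

theorem ch_π : c.ch ≫ A.π =
    Spec.map (CommRingCat.ofHom (MvPolynomial.C : Γ(X, c.U) →+* MvPolynomial (ULift.{u} (Fin r)) Γ(X, c.U))) ≫
      c.hU.fromSpec := by
  rw [ch, Category.assoc, A.ι_π, ← Spec.map_comp_assoc, ← c.C_iso, Category.assoc, Iso.hom_inv_id, Category.comp_id]

theorem isPullback_ch : IsPullback c.ch
    (Spec.map (CommRingCat.ofHom (MvPolynomial.C : Γ(X, c.U) →+* MvPolynomial (ULift.{u} (Fin r)) Γ(X, c.U))))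
    A.π c.hU.fromSpec := by
  haveI : IsOpenImmersion c.ch := inferInstanceAs (IsOpenImmersion (Spec.map c.iso.inv ≫ A.ι c.U c.hU))
  refine (IsOpenImmersion.isPullback _ c.ch c.hU.fromSpec A.π c.ch_π ?_).flip
  rw [IsAffineOpen.opensRange_fromSpec, A.π_preimage c.U c.hU]
  exact (Scheme.Hom.opensRange_comp_of_isIso (Spec.map c.iso.inv) (A.ι c.U c.hU)).symm

end PolyChart

/-- The fibres of a bundle with a chart are affine spaces. -/
theorem exists_fibre {r : ℕ} (c : PolyChart A r) {η : X} (hη : η ∈ c.U) :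
    ∃ j' : Spec (CommRingCat.of (MvPolynomial (ULift.{u} (Fin r)) (X.residueField η))) ⟶ A.spec,
      IsPullback j' (Spec.map (CommRingCat.ofHom MvPolynomial.C)) A.π (X.fromSpecResidueField η) := by
  let χ : CommRingCat.of Γ(X, c.U) ⟶ X.residueField η := X.evaluation c.U η hη
  letI : Algebra Γ(X, c.U) (X.residueField η) := χ.hom.toAlgebra
  let P := MvPolynomial (ULift.{u} (Fin r)) Γ(X, c.U)
  letI : Algebra P (MvPolynomial (ULift.{u} (Fin r)) (X.residueField η)) := MvPolynomial.algebraMvPolynomial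
  have h := isPullback_SpecMap_of_isPushout _ _ _ _
    (CommRingCat.isPushout_of_isPushout Γ(X, c.U) P (X.residueField η)
      (MvPolynomial (ULift.{u} (Fin r)) (X.residueField η)))
  have hχ : Spec.map χ ≫ c.hU.fromSpec = X.fromSpecResidueField η := by
    rw [Scheme.fromSpecResidueField, ← c.hU.fromSpecStalk_eq_fromSpecStalk hη, IsAffineOpen.fromSpecStalk,
      ← Spec.map_comp_assoc]
    rfl
  refine ⟨Spec.map (CommRingCat.ofHom (algebraMap P (MvPolynomial (ULift.{u} (Fin r)) (X.residueField η)))) ≫ c.ch, ?_⟩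
  rw [← hχ]
  exact h.paste_horiz c.isPullback_ch

theorem krull_affineFibre (κ : Type u) [Field κ] (r : ℕ) :
    topologicalKrullDim (Spec (CommRingCat.of (MvPolynomial (ULift.{u} (Fin r)) κ))) = r := by
  show topologicalKrullDim (PrimeSpectrum (MvPolynomial (ULift.{u} (Fin r)) κ)) = r
  rw [PrimeSpectrum.topologicalKrullDim_eq_ringKrullDim, MvPolynomial.ringKrullDim_of_isNoetherianRing,
    ringKrullDim_eq_zero_of_field, zero_add, Nat.card_eq_fintype_card, Fintype.card_ulift, Fintype.card_fin]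

/-- Bundles with charts of constant rank have that relative dimension. -/
theorem hasRelDim_of_charts {r : ℕ} (h : ∀ x : X, ∃ c : PolyChart A r, x ∈ c.U) : Cyc.HasRelDim A.π r := by
  refine CycAffLib.hasRelDim_of_fibres A.π r fun η => ?_
  obtain ⟨c, hη⟩ := h η
  obtain ⟨j', hj⟩ := exists_fibre c hη
  exact ⟨_, j', _, hj, inferInstance, krull_affineFibre _ r⟩

/-- Bundles with charts are flat. -/
theorem flat_of_charts (h : ∀ x : X, ∃ (r : ℕ) (c : PolyChart A r), x ∈ c.U) : Flat A.π := by
  refine IsZariskiLocalAtTarget.of_forall_exists_morphismRestrict (P := @Flat) fun x => ?_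
  obtain ⟨r, c, hx⟩ := h x
  refine ⟨c.hU.fromSpec.opensRange, by rw [IsAffineOpen.opensRange_fromSpec]; exact hx, ?_⟩
  refine prop_morphismRestrict c.isPullback_ch.flip ?_
  rw [HasRingHomProperty.Spec_iff (P := @Flat)]
  exact RingHom.flat_algebraMap_iff.mpr inferInstance

/-- Bundles with charts are of finite type. -/
theorem lft_of_charts (h : ∀ x : X, ∃ (r : ℕ) (c : PolyChart A r), x ∈ c.U) : LocallyOfFiniteType A.π := by
  refine IsZariskiLocalAtTarget.of_forall_exists_morphismRestrict (P := @LocallyOfFiniteType) fun x => ?_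
  obtain ⟨r, c, hx⟩ := h x
  refine ⟨c.hU.fromSpec.opensRange, by rw [IsAffineOpen.opensRange_fromSpec]; exact hx, ?_⟩
  refine prop_morphismRestrict c.isPullback_ch.flip ?_
  rw [HasRingHomProperty.Spec_iff (P := @LocallyOfFiniteType)]
  exact RingHom.finiteType_algebraMap.mpr inferInstance

end SymAlgLib

end
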